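import Groth.Agent.IdealPtLib.Unique
import Groth.Agent.SurfExtLib.Bidual
import Groth.Agent.SurfExtLib.CBHom
import Groth.Agent.SurfExtLib.CurveDual
import Groth.Agent.SerreExtLib.Basic
import Groth.Agent.HilbPolyLib.Pos
import Groth.Agent.CycK0Lib.Ev
import Groth.Agent.AVAmpleLib.CartierSection
import Groth.Agent.PushLinLib.HH

/-!
# A torsion free module with trivial double dual is the ideal of finitely many points
-/

set_option autoImplicit false
set_option linter.style.haveILetI false
set_option linter.unusedSectionVars false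
set_option backward.isDefEq.respectTransparency false
set_option backward.isDefEq.respectTransparency.types false
set_option maxHeartbeats 1000000
universe u

open CategoryTheory CategoryTheory.Limits AlgebraicGeometry TopologicalSpace Opposite
open CohCmpLib (stk homMod evMod evS evS_evMod_curry curryMod_comp)

noncomputable section

namespace IdealPtLib

theorem exists_functional {R M : Type u} [CommRing R] [IsDomain R] [AddCommGroup M] [Module R M]
    [Module.Finite R M] [Module.IsTorsionFree R M] {m : M} (hm : m ≠ 0) : ∃ φ : M →ₗ[R] R, φ m ≠ 0 := by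
  classical
  let K := FractionRing R
  let N := LocalizedModule (nonZeroDivisors R) M
  let ι : M →ₗ[R] N := LocalizedModule.mkLinearMap _ M
  have hv : ι m ≠ 0 := fun h => by
    obtain ⟨⟨r, hr⟩, hrm⟩ := (LocalizedModule.mk_eq (S := nonZeroDivisors R) (M := M)).1
      (h.trans (LocalizedModule.zero_mk 1).symm)
    simp only [one_smul, smul_zero] at hrm
    exact hm ((IsRegular.of_ne_zero (nonZeroDivisors.ne_zero hr)).isSMulRegular (M := M)
      (hrm.trans (smul_zero r).symm))
  obtain ⟨ψ, hψ⟩ := not_forall.1 (mt (Module.forall_dual_apply_eq_zero_iff K (ι m)).1 hv)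
  obtain ⟨G, hG⟩ := Module.Finite.fg_top (R := R) (M := M)
  obtain ⟨⟨b, hb⟩, hbG⟩ := IsLocalization.exist_integer_multiples_of_finset (nonZeroDivisors R)
    (G.image fun g => ψ (ι g))
  let χ : M →ₗ[R] K := b • ((ψ.restrictScalars R) ∘ₗ ι)
  have hrange : ∀ x, χ x ∈ LinearMap.range (Algebra.linearMap R K) := fun x => by
    have htop : (⊤ : Submodule R M) ≤ Submodule.comap χ (LinearMap.range (Algebra.linearMap R K)) := by
      rw [← hG, Submodule.span_le]
      intro g hg
      obtain ⟨a, ha⟩ := hbG _ (Finset.mem_image_of_mem _ hg)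
      exact ⟨a, ha⟩
    exact htop trivial
  have hinj : Function.Injective (Algebra.linearMap R K) := IsFractionRing.injective R K
  let φ : M →ₗ[R] R :=
    (LinearEquiv.ofInjective _ hinj).symm.toLinearMap ∘ₗ χ.codRestrict _ hrange
  refine ⟨φ, fun h => hψ ?_⟩
  have h1 : χ m = 0 := by
    have h2 : χ.codRestrict _ hrange m = 0 :=
      (LinearEquiv.ofInjective _ hinj).symm.map_eq_zero_iff.1 h
    exact congrArg Subtype.val h2
  change b • ψ (ι m) = 0 at h1
  rw [Algebra.smul_def, mul_eq_zero] at h1
  exact h1.resolve_left fun e => nonZeroDivisors.ne_zero hb (hinj (e.trans (map_zero _).symm))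

variable {X : Scheme.{u}} [IsIntegral X] [IsLocallyNoetherian X] {k : Type u} [Field k] {r : ℕ}

/-- Biduality is injective on a torsion free coherent module. -/
theorem ev_injective (i : X ⟶ CohB1.ProjSpace r k) [IsClosedImmersion i] {F : X.Modules} (hF : Coh.IsCoh F)
    (hFt : TorSh.IsTorsionFree F) (y : X) :
    Function.Injective ((DerSch.stalkFunctor X y).map (SurfExtLib.ev (Coh.structureModule X) F)).hom := by
  refine (injective_iff_map_eq_zero _).2 fun a ha => ?_
  by_contra hne
  haveI : Module.Finite (X.presheaf.stalk y) (stk F y) := SurfExtLib.finite_stk hF y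
  haveI : Module.IsTorsionFree (X.presheaf.stalk y) (stk F y) := hFt y
  obtain ⟨φ, hφ⟩ := exists_functional (R := X.presheaf.stalk y) hne
  obtain ⟨u⟩ := RefHullLib.nonempty_stalk_unit X y
  obtain ⟨h, hh⟩ := (SurfExtLib.homEv_evMod_of_isCoh i hF (Coh.structureModule X) y).2 (u.toLinearMap ∘ₗ φ)
  have e0 : evS (evMod (homMod F (Coh.structureModule X)) (Coh.structureModule X)) y
      (((DerSch.stalkFunctor X y).map (SurfExtLib.ev (Coh.structureModule X) F)).hom a) h = 0 := by
    rw [ha, map_zero, LinearMap.zero_apply]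
  rw [SurfExtLib.ev, evS_evMod_curry, SurfExtLib.evS_evHom, hh] at e0
  exact hφ (u.map_eq_zero_iff.1 e0)

variable {K : Type u} [Field K] [X.Over (Spec (CommRingCat.of K))] [IsProper (X ↘ Spec (CommRingCat.of K))]

omit [IsIntegral X] [IsLocallyNoetherian X] in
/-- A coherent module with constant Hilbert polynomial has finite support. -/
theorem dim_le_zero_of_const {L : X.Modules} (hA : CohB1.IsAmple L) {Q : X.Modules} (hQ : Coh.IsCoh Q)
    {c : ℚ} (hP : ShStab.IsHilbPoly K X L Q (Polynomial.C c)) : topologicalKrullDim (CohB1.support Q) ≤ 0 := by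
  by_contra hlt
  rw [not_le] at hlt
  obtain ⟨D, hD⟩ := HilbPolyLib.exists_dim_lt K (X := X)
  have hD' := (topologicalKrullDim_subspace_le X (CohB1.support Q)).trans_lt hD
  obtain ⟨d, hd, hd0⟩ : ∃ d : ℕ, topologicalKrullDim (CohB1.support Q) = (d : WithBot ℕ∞) ∧ 0 < d := by
    cases hd : topologicalKrullDim (CohB1.support Q) with
    | bot => rw [hd] at hlt; exact absurd hlt not_lt_bot
    | coe a =>
      cases a with
      | top => rw [hd] at hD'; exact absurd hD' (not_lt.2 (WithBot.coe_le_coe.2 le_top))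
      | coe n =>
        refine ⟨n, rfl, ?_⟩
        rw [hd] at hlt
        have := WithBot.coe_lt_coe.1 hlt
        exact Nat.cast_pos.1 this
  have := HilbPolyLib.alpha_pos (k := K) hA hQ hP hd
  rw [StabCat.alpha, Polynomial.coeff_C, if_neg hd0.ne', mul_zero] at this
  exact lt_irrefl _ this

omit [IsLocallyNoetherian X] in
/-- A torsion free module with trivial double dual and Hilbert polynomial lowered by `ℓ`. -/
theorem exists_iso_idealMod (i : X ⟶ CohB1.ProjSpace r k) [IsClosedImmersion i] {L : X.Modules}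
    (hLi : PicF.IsInvertible L) (hA : CohB1.IsAmple L) {ℓ : ℕ} {F : X.Modules} (hFc : Coh.IsCoh F)
    (hFt : TorSh.IsTorsionFree F)
    [DCoh.HasSheafHom F] [DCoh.HasSheafHom ((DCoh.sheafHom F).obj (Coh.structureModule X))]
    (hdet : Nonempty ((DCoh.sheafHom ((DCoh.sheafHom F).obj (Coh.structureModule X))).obj
      (Coh.structureModule X) ≅ Coh.structureModule X))
    (hFP : ∃ P : Polynomial ℚ, ShStab.IsHilbPoly K X L (Coh.structureModule X) P ∧
      ShStab.IsHilbPoly K X L F (P - Polynomial.C (ℓ : ℚ))) :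
    ∃ Z : X.IdealSheafData, topologicalKrullDim (Z.support : Set X) ≤ 0 ∧
      Mor2.IsFinLocFreeOfDeg ℓ (Z.subschemeι ≫ (X ↘ Spec (CommRingCat.of K))) ∧
      Nonempty (F ≅ ClSub.idealMod Z) := by
  haveI := CurvLib.isNoetherian K (X := X)
  obtain ⟨e⟩ := hdet
  let σ : DCoh.sheafHom F ≅ _ := (DCoh.sheafHomAdj F).rightAdjointUniq (HomCohLib.homAdj F)
  let e₁ : (DCoh.sheafHom F).obj (Coh.structureModule X) ≅ homMod F (Coh.structureModule X) :=
    σ.app (Coh.structureModule X)
  let τ : DCoh.sheafHom ((DCoh.sheafHom F).obj (Coh.structureModule X)) ≅ _ :=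
    ((DCoh.sheafHomAdj _).ofNatIsoLeft ((DCoh.tensorBi (X := X)).mapIso e₁)).rightAdjointUniq
      (HomCohLib.homAdj (homMod F (Coh.structureModule X)))
  let b : homMod (homMod F (Coh.structureModule X)) (Coh.structureModule X) ≅ Coh.structureModule X :=
    (τ.app (Coh.structureModule X)).symm ≪≫ e
  haveI : Mono (SurfExtLib.ev (Coh.structureModule X) F) :=
    CycK0Lib.mono_of_stalks _ fun y => ev_injective i hFc hFt y
  haveI : Coh.IsQCoh F := hFc.1
  obtain ⟨Z, θ, -⟩ := SerreExtLib.exists_ideal_of_mono (SurfExtLib.ev (Coh.structureModule X) F ≫ b.hom)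
  obtain ⟨P, hP, hPF⟩ := hFP
  have hI := HilbPolyLib.isHilbPoly_congr θ hPF
  have hQc := CurvLib.isCoh_quotMod Z
  obtain ⟨R, hR⟩ := HilbPolyLib.exists_isHilbPoly' (k := K) hLi hQc
  have hsum := HilbPolyLib.isHilbPoly_add hLi (CurvLib.idealSeq_shortExact Z) (SurfExtLib.isCoh_idealMod Z)
    (DevissLib.isCoh_structureModule X) hQc hI hR
  have hRc : R = Polynomial.C (ℓ : ℚ) := by
    have := HilbPolyLib.isHilbPoly_unique hsum hP
    linear_combination this
  rw [hRc] at hR
  have hdim : topologicalKrullDim (Z.support : Set X) ≤ 0 := by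
    rw [← AVAmpleLib.support_quotMod]
    exact dim_le_zero_of_const hA hQc hR
  refine ⟨Z, hdim, ?_, ⟨θ⟩⟩
  letI : Z.subscheme.Over (Spec (CommRingCat.of K)) := ⟨Z.subschemeι ≫ (X ↘ Spec (CommRingCat.of K))⟩
  haveI : IsProper (Z.subscheme ↘ Spec (CommRingCat.of K)) :=
    inferInstanceAs (IsProper (Z.subschemeι ≫ (X ↘ Spec (CommRingCat.of K))))
  refine isFinLocFreeOfDeg_of_dim_zero ((((Z.subschemeι.isEmbedding.toHomeomorph.trans
    (Homeomorph.setCongr Z.range_subschemeι)).isHomeomorph.topologicalKrullDim_eq)).le.trans hdim) ?_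
  haveI := CurvLib.isNoetherian K (X := Z.subscheme)
  haveI : Coh.IsQCoh (Coh.structureModule Z.subscheme) := (DevissLib.isCoh_structureModule _).1
  rw [(PushLinLib.euler_push K Z.subschemeι rfl (Coh.structureModule Z.subscheme)).2]
  have h0 := hR 0
  rw [HilbPolyLib.euler_twist, Polynomial.eval_C] at h0
  have h1 : Curv2.euler K X (CohB1.tensorMod (CohB1.tensorPow L 0) (ClSub.quotMod Z)) =
      Curv2.euler K X ((Coh.push Z.subschemeι).obj (Coh.structureModule Z.subscheme)) :=
    CurvLib.euler_congr (HilbPolyLib.unitLeft _)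
  rw [h1] at h0
  exact_mod_cast h0

end IdealPtLib

end
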