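import Groth.Agent.IdealTypeLib.Main
import Groth.Agent.S2111
import Groth.Agent.LocFFLib.Basic
import Groth.Agent.WeilExtLib.Smooth
import Groth.Agent.PnDualLib.ProjAlg
import Groth.Agent.CurvLib.Finite0
import Groth.Agent.IntMultLib.Dim0
import Groth.Agent.HilbPolyLib.Basic

/-!
# Ideals of finitely many points on a normal variety of dimension at least two
-/

set_option autoImplicit false
set_option linter.style.haveILetI false
set_option linter.unusedSectionVars false
set_option backward.isDefEq.respectTransparency false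
set_option backward.isDefEq.respectTransparency.types false
set_option maxHeartbeats 1000000
universe u

open CategoryTheory CategoryTheory.Limits AlgebraicGeometry TopologicalSpace Opposite
open IdealTypeLib (fn)

noncomputable section

namespace IdealPtLib

variable {X : Scheme.{u}}

theorem fn_cross {I I' : X.IdealSheafData} (V : X.Opens) (a : ClSub.idealMod I ⟶ ClSub.idealMod I')
    (s t : Γ(ClSub.idealMod I, V)) : fn I' V (a.app V s) * fn I V t = fn I' V (a.app V t) * fn I V s := by
  have h : fn I V t • s = fn I V s • t := by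
    apply IntMultLib.idealModι_app_injective I V
    show fn I V (fn I V t • s) = fn I V (fn I V s • t)
    rw [show fn I V (fn I V t • s) = fn I V t * fn I V s from IntMultLib.idealModι_smul I V _ s,
      show fn I V (fn I V s • t) = fn I V s * fn I V t from IntMultLib.idealModι_smul I V _ t, mul_comm]
  have h1 : fn I V t • a.app V s = fn I V s • a.app V t :=
    (QCohLib.app_smul a V _ s).symm.trans ((congrArg (a.app V) h).trans (QCohLib.app_smul a V _ t))
  have h2 : fn I V t * fn I' V (a.app V s) = fn I V s * fn I' V (a.app V t) :=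
    ((IntMultLib.idealModι_smul I' V _ _).symm.trans (congrArg (fn I' V) h1)).trans
      (IntMultLib.idealModι_smul I' V _ _)
  rw [mul_comm (fn I' V (a.app V s)), h2, mul_comm]

variable {K : Type u} [Field K] [X.Over (Spec (CommRingCat.of K))] [IsIntegral X]
  [Smooth (X ↘ Spec (CommRingCat.of K))] [IsProper (X ↘ Spec (CommRingCat.of K))]

include K in
variable (K) in
theorem exists_dim_eq : ∃ d : ℕ, topologicalKrullDim X = (d : WithBot ℕ∞) := by
  obtain ⟨D, hD⟩ := HilbPolyLib.exists_dim_lt K (X := X)
  have h0 : (0 : WithBot ℕ∞) ≤ topologicalKrullDim X := by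
    haveI : Nonempty (IrreducibleCloseds X) :=
      ⟨⟨closure {genericPoint X}, isIrreducible_singleton.closure, isClosed_closure⟩⟩
    exact Order.krullDim_nonneg
  cases hd : topologicalKrullDim X with
  | bot => rw [hd] at h0; exact absurd h0 (not_le.2 (WithBot.bot_lt_coe _))
  | coe a =>
    cases a with
    | top =>
      rw [hd] at hD
      exact absurd hD (not_lt.2 (WithBot.coe_le_coe.2 le_top))
    | coe n => exact ⟨n, rfl⟩

include K in
variable (K) in
/-- Primes containing an ideal of finitely many closed points have height at least two. -/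
theorem two_le_height (hdim : 2 ≤ topologicalKrullDim X) {Z : X.IdealSheafData}
    (hZ : topologicalKrullDim (Z.support : Set X) ≤ 0) (U : X.affineOpens) (p : Ideal Γ(X, U.1)) [p.IsPrime]
    (h : Z.ideal U ≤ p) : (2 : ℕ∞) ≤ p.height := by
  haveI := CurvLib.isNoetherian K (X := X)
  let y : PrimeSpectrum Γ(X, U.1) := ⟨p, inferInstance⟩
  let x : X := U.2.fromSpec y
  have hxU : x ∈ U.1 := by
    show x ∈ (U.1 : Set X)
    rw [← U.2.range_fromSpec]
    exact ⟨y, rfl⟩
  have hxS : x ∈ (Z.support : Set X) := by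
    have hm : x ∈ U.2.fromSpec '' PrimeSpectrum.zeroLocus (Z.ideal U : Set Γ(X, U.1)) := ⟨y, h, rfl⟩
    rw [U.2.fromSpec_image_zeroLocus] at hm
    exact ((Scheme.IdealSheafData.coe_support_inter Z U).symm ▸ hm : x ∈ (Z.support : Set X) ∩ U.1).1
  have hcl := (CurvLib.finite_isClosed_of_dim_le_zero Z.support.isClosed hZ).2 x hxS
  obtain ⟨d, hd⟩ := exists_dim_eq K (X := X)
  have hs := PnDualLib.dim_stalk_closed (k := K)
    (WeilExtLib.isRegular_stalk_smooth (X ↘ Spec (CommRingCat.of K))) hd x hcl
  letI : Algebra Γ(X, U.1) (X.presheaf.stalk x) := TopCat.Presheaf.algebra_section_stalk X.presheaf ⟨x, hxU⟩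
  haveI : IsLocalization.AtPrime (X.presheaf.stalk x) p := U.2.isLocalization_stalk' y hxU
  rw [IsLocalization.AtPrime.ringKrullDim_eq_height p (X.presheaf.stalk x), ← hd] at hs
  rw [← hs] at hdim
  exact WithBot.coe_le_coe.1 hdim

include K in
variable (K) in
/-- An ideal of points is determined by its module. -/
theorem ideal_le_of_iso (hdim : 2 ≤ topologicalKrullDim X) {Z Z' : X.IdealSheafData}
    (hZ : topologicalKrullDim (Z.support : Set X) ≤ 0) (hne : Z ≠ ⊥)
    (a : ClSub.idealMod Z ≅ ClSub.idealMod Z') : Z' ≤ Z := fun U r hr => by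
  rcases isEmpty_or_nonempty (U.1 : X.Opens) with hU | hU
  · haveI : Subsingleton Γ(X, U.1) := by
      have hb : U.1 = ⊥ := by
        ext x
        exact ⟨fun hx => (hU.false ⟨x, hx⟩).elim, fun hx => hx.elim⟩
      rw [hb]
      exact CommRingCat.subsingleton_of_isTerminal X.sheaf.isTerminalOfEmpty
    rw [Subsingleton.elim r 0]
    exact zero_mem _
  haveI := CurvLib.isNoetherian K (X := X)
  haveI : Nonempty (U : X.Opens) := hU
  haveI := LocFFLib.isIntegrallyClosed_sections (CurveQuotLib.isNormal_of_smooth (X ↘ Spec (CommRingCat.of K))) U.1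
  haveI : IsNoetherianRing Γ(X, U.1) := IsLocallyNoetherian.component_noetherian U
  obtain ⟨y, hy, hy0⟩ := Submodule.exists_mem_ne_zero_of_ne_bot (IdealTypeLib.ideal_ne_bot hne U)
  obtain ⟨v, hv⟩ := GenFlatStrat.exists_idealMod_section Z U y hy
  let F := FractionRing Γ(X, U.1)
  let al := algebraMap Γ(X, U.1) F
  have hinj : Function.Injective al := IsFractionRing.injective _ _
  have hv0 : al (fn Z U.1 v) ≠ 0 := by
    intro h
    exact hy0 (hv.symm.trans (hinj (h.trans (map_zero al).symm)))
  let q : F := al (fn Z' U.1 (a.hom.app U.1 v)) / al (fn Z U.1 v)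
  have hc : ∀ s, al (fn Z' U.1 (a.hom.app U.1 s)) = q * al (fn Z U.1 s) := fun s => by
    rw [div_mul_eq_mul_div, eq_div_iff hv0, ← map_mul, ← map_mul, fn_cross]
  obtain ⟨g, hg⟩ := Groth.Agent.S2111.result q fun p _ hp => by
    have hnot : ¬ Z.ideal U ≤ p := fun h => by
      have h2 := two_le_height K hdim hZ U p h
      rw [hp] at h2
      exact absurd h2 (by decide)
    obtain ⟨f, hf, hfp⟩ := SetLike.not_le_iff_exists.1 hnot
    obtain ⟨s, hs⟩ := GenFlatStrat.exists_idealMod_section Z U f hf
    refine ⟨IsLocalization.mk' (Localization.AtPrime p) (fn Z' U.1 (a.hom.app U.1 s))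
      (⟨f, hfp⟩ : p.primeCompl), ?_⟩
    have hf0 : al f ≠ 0 := fun e => hfp (by rw [hinj (e.trans (map_zero al).symm)]; exact zero_mem _)
    refine mul_right_cancel₀ hf0 ?_
    rw [show al f = algebraMap (Localization.AtPrime p) F (algebraMap Γ(X, U.1) _ f) from
        IsScalarTower.algebraMap_apply Γ(X, U.1) (Localization.AtPrime p) F f, ← map_mul]
    rw [show IsLocalization.mk' (Localization.AtPrime p) (fn Z' U.1 (a.hom.app U.1 s))
        (⟨f, hfp⟩ : p.primeCompl) * algebraMap Γ(X, U.1) _ f =
        algebraMap Γ(X, U.1) _ (fn Z' U.1 (a.hom.app U.1 s)) from IsLocalization.mk'_spec _ _ _,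
      ← IsScalarTower.algebraMap_apply, ← IsScalarTower.algebraMap_apply]
    show al _ = q * al f
    rw [hc s, show fn Z U.1 s = f from hs]
  obtain ⟨s', hs'⟩ := GenFlatStrat.exists_idealMod_section Z' U r hr
  have e1 : a.hom.app U.1 (a.inv.app U.1 s') = s' :=
    ConcreteCategory.congr_hom (congrArg (fun φ : ClSub.idealMod Z' ⟶ ClSub.idealMod Z' => φ.app U.1)
      a.inv_hom_id) s'
  have e2 : fn Z' U.1 (a.hom.app U.1 (a.inv.app U.1 s')) = g * fn Z U.1 (a.inv.app U.1 s') :=
    hinj (by rw [map_mul, hc, ← hg])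
  rw [e1] at e2
  rw [show r = g * fn Z U.1 (a.inv.app U.1 s') from hs'.symm.trans e2]
  exact Ideal.mul_mem_left _ _ (GenFlatStrat.idealModι_mem Z U _)

/-- A proper scheme of dimension at most zero is finite, of degree its Euler characteristic. -/
theorem isFinLocFreeOfDeg_of_dim_zero {K : Type u} [Field K] {Z : Scheme.{u}}
    [Z.Over (Spec (CommRingCat.of K))] [IsProper (Z ↘ Spec (CommRingCat.of K))]
    (hd : topologicalKrullDim Z ≤ 0) {ℓ : ℕ} (h : Curv2.euler K Z (Coh.structureModule Z) = ℓ) :
    Mor2.IsFinLocFreeOfDeg ℓ (Z ↘ Spec (CommRingCat.of K)) := by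
  let π := Z ↘ Spec (CommRingCat.of K)
  haveI := CurvLib.isNoetherian K (X := Z)
  haveI : Finite Z := (CurvLib.finite_of_dim_le_zero hd).1
  haveI : LocallyQuasiFinite π := locallyQuasiFinite_iff_finite_preimage_singleton.2 fun _ => Set.toFinite _
  haveI : IsFinite π := IsFinite.of_isProper_of_locallyQuasiFinite π
  haveI : Flat π := inferInstance
  haveI : LocallyOfFinitePresentation π := inferInstance
  let x : Spec (CommRingCat.of K) := IsLocalRing.closedPoint K
  have hall : ∀ y : Spec (CommRingCat.of K), π.finrank y = π.finrank x := fun y => by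
    rw [Subsingleton.elim y x]
  have hdeg : Mor2.IsFinLocFreeOfDeg (π.finrank x) π := ⟨⟨inferInstance, inferInstance, inferInstance⟩, hall⟩
  have := (IdealTypeLib.euler_of_degree (K := K) hdeg).2
  rw [h] at this
  rw [show ℓ = π.finrank x by exact_mod_cast this]
  exact hdeg

end IdealPtLib

end
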